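import Groth.Agent.DCohMore.DualFlf
import Groth.Agent.PullbackMod.Props
import Groth.Agent.PullbackMod.Hom
import Groth.Agent.DegDevLib.Deg
import Groth.Agent.ASp.PropDescend

/-!
# Maps into locally free sheaves on reduced schemes vanishing generically
-/

set_option autoImplicit false
set_option backward.isDefEq.respectTransparency false
set_option backward.isDefEq.respectTransparency.types false
set_option linter.style.haveILetI false

universe u

open CategoryTheory CategoryTheory.Limits AlgebraicGeometry TopologicalSpace Opposite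
open Groth.Agent.PullbackMod Groth.Agent.DCohLib Groth.Agent.CurveLib
open scoped TensorProduct

noncomputable section

namespace Groth.Agent.FactorBetaLib

/-- On a reduced scheme a section vanishing on a dense open vanishes. -/
theorem section_eq_zero {Z : Scheme.{u}} [IsReduced Z] {V W : Z.Opens} (hV : Dense (V : Set Z)) (t : Γ(Z, W))
    (h : Z.presheaf.map (homOfLE (inf_le_left : W ⊓ V ≤ W)).op t = 0) : t = 0 := by
  refine eq_zero_of_basicOpen_eq_bot t ?_
  have h1 : (W ⊓ V) ⊓ Z.basicOpen t = ⊥ := by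
    rw [← Z.basicOpen_res t (homOfLE (inf_le_left : W ⊓ V ≤ W)).op, h, Z.basicOpen_zero]
  by_contra hne
  obtain ⟨x, hx⟩ : (Z.basicOpen t : Set Z).Nonempty := by
    by_contra hemp
    exact hne (Opens.ext (Set.not_nonempty_iff_eq_empty.1 hemp))
  obtain ⟨y, hy, hyV⟩ := hV.inter_open_nonempty _ (Z.basicOpen t).2 ⟨x, hx⟩
  have hm : y ∈ (W ⊓ V) ⊓ Z.basicOpen t := ⟨⟨Z.basicOpen_le t hy, hyV⟩, hy⟩
  rw [h1] at hm
  exact hm

/-- The same for sections of a free module. -/
theorem section_eq_zero_free {Z : Scheme.{u}} [IsReduced Z] {E : Z.Modules} {n : ℕ} (e : E ≅ FlatMod.freeMod Z n)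
    {V W : Z.Opens} (hV : Dense (V : Set Z)) (s : Γ(E, W))
    (h : E.presheaf.map (homOfLE (inf_le_left : W ⊓ V ≤ W)).op s = 0) : s = 0 := by
  obtain ⟨j, p, -, hp⟩ := DCohMore.exists_frame e
  have h0 : ∀ i, (p i).app W s = 0 := fun i => by
    refine section_eq_zero hV ((p i).app W s) ?_
    refine ((PresheafOfModules.naturality_apply (p i).val (homOfLE (inf_le_left : W ⊓ V ≤ W)).op s).symm.trans ?_)
    exact (congrArg ((p i).app (W ⊓ V)) h).trans (map_zero _)
  have hs : (∑ i, p i ≫ j i).app W s = s := by rw [hp]; rfl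
  let ev : (E ⟶ E) →+ Γ(E, W) := AddMonoidHom.mk' (fun q => q.app W s) fun a b => rfl
  refine hs.symm.trans ((map_sum ev _ _).trans (Finset.sum_eq_zero fun i _ => ?_))
  show (j i).app W ((p i).app W s) = 0
  rw [h0, map_zero]

/-- A morphism into a locally free module of a reduced scheme vanishing on stalks over a dense open. -/
theorem hom_eq_zero {Y : Scheme.{u}} [IsReduced Y] {K E : Y.Modules} {n : ℕ}
    (hE : FlatMod.IsFinLocFreeOfRank n E) {V : Y.Opens} (hV : Dense (V : Set Y)) (φ : K ⟶ E)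
    (h : ∀ y ∈ V, stalkLin φ y = 0) : φ = 0 := by
  refine (eq_zero_iff_stalk φ).2 fun x => LinearMap.ext fun z => ?_
  obtain ⟨W, hxW, m, rfl⟩ := TopCat.Presheaf.exists_germ_eq K.presheaf z
  rw [stalkLin_germ, LinearMap.zero_apply]
  obtain ⟨U, hxU, ⟨e⟩⟩ := hE x
  set W' : (U : Scheme.{u}).Opens := U.ι ⁻¹ᵁ W with hW'
  have hle : U.ι ''ᵁ W' ≤ W := U.ι.image_preimage_le W
  let s : Γ(E, U.ι ''ᵁ W') := E.presheaf.map (homOfLE hle).op (φ.app W m)
  have hx' : x ∈ U.ι ''ᵁ W' := ⟨⟨x, hxU⟩, hxW, rfl⟩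
  rw [← TopCat.Presheaf.germ_res_apply E.presheaf (homOfLE hle) x hx']
  have hV' : Dense ((U.ι ⁻¹ᵁ V : (U : Scheme.{u}).Opens) : Set (U : Scheme.{u})) :=
    hV.preimage U.ι.isOpenEmbedding.isOpenMap
  have hs : s = 0 := by
    refine section_eq_zero_free e hV' (W := W') s ?_
    refine TopCat.Presheaf.section_ext (⟨E.presheaf, E.isSheaf⟩ : TopCat.Sheaf Ab Y)
      (U.ι ''ᵁ (W' ⊓ U.ι ⁻¹ᵁ V)) _ _ fun y hy => ?_
    show E.presheaf.germ _ y hy (E.presheaf.map _ s) = E.presheaf.germ _ y hy 0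
    rw [map_zero]
    obtain ⟨y', ⟨hy1, hy2⟩, rfl⟩ := hy
    refine (TopCat.Presheaf.germ_res_apply E.presheaf _ _ _ _).trans ?_
    refine (TopCat.Presheaf.germ_res_apply E.presheaf (homOfLE hle) _ ⟨y', hy1, rfl⟩ _).trans ?_
    exact (stalkLin_germ φ (U.ι y') hy1 m).symm.trans (LinearMap.congr_fun (h _ hy2) _)
  show E.presheaf.germ _ x hx' s = 0
  rw [hs, map_zero]

variable {X Y : Scheme.{u}} (π : Y ⟶ X) {F : X.Modules} [Coh.IsQCoh F] {r : ℕ} {E₀ : Y.Modules}

/-- An epimorphism from an inverse image onto a locally free module of the same rank is injective on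
stalks where the module is free. -/
theorem injective_stalk (hE₀ : FlatMod.IsFinLocFreeOfRank r E₀) (p : (Scheme.Modules.pullback π).obj F ⟶ E₀)
    [Epi p] (y : Y) (h : Nonempty (F.presheaf.stalk (π y) ≃ₗ[X.presheaf.stalk (π y)] (Fin r → X.presheaf.stalk (π y)))) :
    Function.Injective (stalkLin p y) := by
  letI := (π.stalkMap y).hom.toAlgebra
  obtain ⟨f⟩ := h
  obtain ⟨φ, -⟩ := exists_pullback_stalk_equiv π F y
  obtain ⟨e⟩ := freeAt_of_isFinLocFreeOfRank hE₀ y
  let a : ((Scheme.Modules.pullback π).obj F).presheaf.stalk y ≃ₗ[Y.presheaf.stalk y] (Fin r → Y.presheaf.stalk y) :=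
    φ.symm ≪≫ₗ TensorProduct.AlgebraTensorModule.congr (LinearEquiv.refl _ _) f ≪≫ₗ
      TensorProduct.piScalarRight (X.presheaf.stalk (π y)) (Y.presheaf.stalk y) (Y.presheaf.stalk y) (Fin r)
  let g : (Fin r → Y.presheaf.stalk y) →ₗ[Y.presheaf.stalk y] (Fin r → Y.presheaf.stalk y) :=
    e.toLinearMap ∘ₗ stalkLin p y ∘ₗ a.symm.toLinearMap
  have hg : Function.Surjective g :=
    e.surjective.comp (((epi_iff_stalk p).1 inferInstance y).comp a.symm.surjective)
  have hi := OrzechProperty.injective_of_surjective_endomorphism g hg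
  intro u v huv
  refine a.injective (hi ?_)
  show e (stalkLin p y (a.symm (a u))) = e (stalkLin p y (a.symm (a v)))
  rw [a.symm_apply_apply, a.symm_apply_apply, huv]

end Groth.Agent.FactorBetaLib
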